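import Cfsg.Agent.H978.TZ.Tool
import Cfsg.Agent.H843.IMC.Co2A
import Cfsg.Agent.H843.IMC.Co2B
import Cfsg.Agent.H843.IMC.Co1B
import Cfsg.Agent.H547.SelfCent.Conway
import Cfsg.Agent.H393.Iso.Co2
import Cfsg.Agent.H393.Iso.Co1
import Cfsg.Agent.S0399
import Cfsg.Agent.S2069
import Cfsg.Agent.S2070

/-!
# S4897: the rows of `Co2` and `Co1` (helper978)
-/

set_option autoImplicit false

namespace Cfsg.Agent.H978.TZ.Co12

open Cfsg Subgroup Cfsg.Agent.H504.TwoZ Cfsg.Agent.H504.Zeros Cfsg.Agent.Characters.Core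

theorem card_cent2 [Finite Spor.Co2] {x : Spor.Co2} (hx : orderOf x = 23) :
    Nat.card (centralizer ({x} : Set Spor.Co2)) = 23 :=
  Cfsg.Agent.H547.SelfCent.Conway.co2 ⟨MulEquiv.refl _⟩ Cfsg.Agent.H393.Iso.na_co2_model hx

theorem row1_co2 : Row1 Spor.Co2 := by
  left
  have c : Nat.card Spor.Co2 = 42305421312000 := Cfsg.Agent.BiChar.Small.card_Co2
  have hfin : Finite Spor.Co2 := Nat.finite_of_card_ne_zero (by rw [c]; norm_num)
  obtain ⟨χ, dχ⟩ := Cfsg.Agent.H843.IMC.Co2A.hasDeg_2024_275.1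
  obtain ⟨ψ, dψ⟩ := Cfsg.Agent.H843.IMC.Co2B.hasDeg_2277
  have hp : Fact (Nat.Prime 23) := ⟨by norm_num⟩
  have hp' : Fact (Nat.Prime 11) := ⟨by norm_num⟩
  obtain ⟨x, hx⟩ := exists_prime_orderOf_dvd_card' 23 (G := Spor.Co2) (by rw [c]; norm_num)
  obtain ⟨y, hy⟩ := exists_prime_orderOf_dvd_card' 11 (G := Spor.Co2) (by rw [c]; norm_num)
  have main : ∀ θ : IrrCharacter Spor.Co2, 253 ∣ charDegree (θ : Spor.Co2 → ℂ) → 3 ≤ zc θ := by
    intro θ hθ
    refine three_of_isolated (r := 23) (n := 1839366144000) (e := 11) (m := 2) (by norm_num) hx (card_cent2 hx)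
      (by rw [c]) (by rw [c]; norm_num) (by norm_num) (by norm_num) (by norm_num)
      ((by norm_num : 23 ∣ 253).trans hθ) (y := y) ?_ (by rw [hy]; norm_num)
    exact zero_of_dvd (p := 11) (by norm_num) (by rw [c]; norm_num) ((by norm_num : 11 ∣ 253).trans hθ) (by rw [hy])
  refine ⟨χ, ψ, ?_, main χ (by rw [dχ]; norm_num), main ψ (by rw [dψ]; norm_num)⟩
  rintro rfl
  omega

/-- **the row of `Co2`** -/
theorem co2 {S : Type} [Group S] (h : Spor.IsoCo2 S) : RowT S := by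
  obtain ⟨e⟩ := h
  have c : Nat.card Spor.Co2 = 42305421312000 := Cfsg.Agent.BiChar.Small.card_Co2
  have hfin : Finite Spor.Co2 := Nat.finite_of_card_ne_zero (by rw [c]; norm_num)
  have : Finite S := Finite.of_equiv _ e.symm.toEquiv
  exact RowT.of_equiv e ⟨row1_co2, row2_of_out_one Cfsg.Agent.S2070.result⟩

open Cfsg.Agent.H419.Spor.Co1 Cfsg.Agent.CoOneType.CoOneE Cfsg.Agent.SporadicA.Co0Mono in
theorem row1_co1 : Row1 Spor.Co1 := by
  left
  have hfin : Finite Spor.Co1 := Cfsg.Agent.H419.Spor.Co1.finite_co1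
  have c : Nat.card Spor.Co1 = 4157776806543360000 := Cfsg.Agent.S0399.result.2
  obtain ⟨χ, hχ, dχ⟩ := Cfsg.Agent.H843.IMC.Co1B.exists_276
  obtain ⟨ψ, dψ, -⟩ := Cfsg.Agent.H843.IMC.Co1B.exists_299
  have hp : Fact (Nat.Prime 23) := ⟨by norm_num⟩
  have hp' : Fact (Nat.Prime 13) := ⟨by norm_num⟩
  obtain ⟨x, hx⟩ := exists_prime_orderOf_dvd_card' 23 (G := Spor.Co1) (by rw [c]; norm_num)
  obtain ⟨y, hy⟩ := exists_prime_orderOf_dvd_card' 13 (G := Spor.Co1) (by rw [c]; norm_num)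
  refine ⟨χ, ψ, ?_, ?_, ?_⟩
  · rintro rfl
    omega
  · refine three_of_orders {23, 6, 12} (by decide) fun n hn => ?_
    simp only [Finset.mem_insert, Finset.mem_singleton] at hn
    rcases hn with rfl | rfl | rfl
    · exact ⟨x, hx, zero_of_dvd (p := 23) (by norm_num) (by rw [c]; norm_num) (by rw [dχ]; norm_num) (by rw [hx])⟩
    · exact ⟨pr (permCo0 y6), order6, by rw [hχ, psi_perm y6_fix y6_fix2]⟩
    · exact ⟨pr (permCo0 y12), order12, by rw [hχ, psi_perm y12_fix y12_fix2]⟩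
  · refine three_of_isolated (r := 23) (n := 180772904632320000) (e := 11) (m := 2) (by norm_num) hx
      (Cfsg.Agent.H547.SelfCent.Conway.co1 ⟨MulEquiv.refl _⟩ Cfsg.Agent.H393.Iso.na_co1_model hx)
      (by rw [c]) (by rw [c]; norm_num) (by norm_num) (by norm_num) (by norm_num)
      (by rw [dψ]; norm_num) (y := y) ?_ (by rw [hy]; norm_num)
    exact zero_of_dvd (p := 13) (by norm_num) (by rw [c]; norm_num) (by rw [dψ]; norm_num) (by rw [hy])

/-- **the row of `Co1`** -/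
theorem co1 {S : Type} [Group S] (h : Spor.IsoCo1 S) : RowT S := by
  obtain ⟨e⟩ := h
  have hfin : Finite Spor.Co1 := Cfsg.Agent.H419.Spor.Co1.finite_co1
  have : Finite S := Finite.of_equiv _ e.symm.toEquiv
  exact RowT.of_equiv e ⟨row1_co1, row2_of_out_one Cfsg.Agent.S2069.result⟩

end Cfsg.Agent.H978.TZ.Co12
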