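import Cfsg.Agent.H978.TZ.Tool
import Cfsg.Agent.H843.IMC.Co3A
import Cfsg.Agent.H547.SelfCent.Conway
import Cfsg.Agent.H393.Iso.Co3
import Cfsg.Agent.H701.SporCo3
import Cfsg.Agent.H419.Spor.Co3

/-!
# S4897: the row of `Co3` (helper978)
-/

set_option autoImplicit false

namespace Cfsg.Agent.H978.TZ.Co3

open Cfsg Subgroup Cfsg.Agent.H504.TwoZ Cfsg.Agent.H504.Zeros Cfsg.Agent.Characters.Core
open Cfsg.Agent.H419.Spor.Co3 Cfsg.Agent.H419.Spor.Mathieu Cfsg.Agent.H843.IMC.Co3A Cfsg.Agent.H707.RowCo3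
open Cfsg.Agent.SporadicA.GolayBase Cfsg.Agent.SporadicA.Co0Mono Cfsg.Agent.Leech.Basic

/-- the permutation of order 14 -/
noncomputable abbrev σ : Equiv.Perm GolayPt := cubeTwist * M * T

/-- the cycle of a point -/
def lab : GolayPt → Fin 4
  | none => 0
  | some t => if t = 1 ∨ t = 2 then 1 else
      if t = 3 ∨ t = 16 ∨ t = 19 ∨ t = 11 ∨ t = 18 ∨ t = 15 ∨ t = 12 then 2 else 3

def rep (j : Fin 4) : GolayPt := if j = 0 then none else if j = 1 then some 1 else if j = 2 then some 3 else some 0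

theorem lab_cyc : ∀ p : GolayPt, ∃ k < 14, (σ ^ k) (rep (lab p)) = p := by decide +kernel

theorem card_lab : ∀ j : Fin 4, (Finset.univ.filter fun p : GolayPt => lab p = j).card =
    if j = 0 then 1 else if j = 1 then 2 else if j = 2 then 7 else 14 := by decide +kernel

theorem lab_inv : ∀ p : GolayPt, lab (σ p) = lab p := by decide +kernel

theorem lab_some : ∀ t : ZMod 23, lab (some t) ≠ 0 := by decide +kernel

theorem sum_lab (F : Fin 4 → ℤ) : ∑ p : GolayPt, F (lab p) = F 0 + 2 * F 1 + 7 * F 2 + 14 * F 3 := by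
  classical
  rw [← Finset.sum_fiberwise (s := (Finset.univ : Finset GolayPt)) (g := lab)]
  have h1 : ∀ j : Fin 4, ∑ p ∈ Finset.univ.filter (fun p : GolayPt => lab p = j), F (lab p) =
      ((Finset.univ.filter fun p : GolayPt => lab p = j).card : ℤ) * F j := by
    intro j
    rw [Finset.sum_congr rfl fun p hp => by rw [(Finset.mem_filter.1 hp).2], Finset.sum_const, nsmul_eq_mul]
  rw [Finset.sum_congr rfl fun j _ => h1 j]
  simp only [card_lab]
  rw [Fin.sum_univ_four]
  simp

/-- the vector `(-2, -2^7, 0^16)` -/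
def vecW (p : GolayPt) : ℤ := if lab p = 0 ∨ lab p = 2 then -2 else 0

theorem vecW_mem : vecW ∈ leechLattice := by
  rw [mem_leech_iff]
  refine ⟨0, by decide +kernel, by decide +kernel, fun k => ?_⟩
  rw [mem_supports_iff]
  have h1 : (Finset.univ.filter fun i => vecW i ≡ k [ZMOD 4]) =
      (Finset.univ.filter fun i => vecW i ≡ k % 4 [ZMOD 4]) := by
    apply Finset.filter_congr
    intro i _
    unfold Int.ModEq
    rw [Int.emod_emod_of_dvd _ (dvd_refl 4)]
  rw [h1]
  have h2 : k % 4 = 0 ∨ k % 4 = 1 ∨ k % 4 = 2 ∨ k % 4 = 3 := by omega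
  rcases h2 with h | h | h | h <;> rw [h] <;> decide +kernel

noncomputable def w0 : X := ⟨⟨vecW, vecW_mem⟩, by
  constructor
  · show sqNorm vecW = 32
    decide +kernel
  · show sqNorm (Spor.vecV - vecW) = 32
    decide +kernel⟩

/-- a fixed vector is constant on the cycles -/
theorem const {x : X} (h : k y14 • x = x) (p : GolayPt) :
    (x.1 : GolayPt → ℤ) p = (x.1 : GolayPt → ℤ) (rep (lab p)) := by
  have h1 : ∀ q, (x.1 : GolayPt → ℤ) (σ q) = (x.1 : GolayPt → ℤ) q := by
    intro q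
    have h2 : ((k y14 • x : X).1 : GolayPt → ℤ) = (x.1 : GolayPt → ℤ) := by rw [h]
    have h3 := congrFun h2 (σ q)
    rw [← h3]
    show (x.1 : GolayPt → ℤ) (σ.symm (σ q)) = _
    rw [Equiv.symm_apply_apply]
  have h2 : ∀ (n : ℕ) q, (x.1 : GolayPt → ℤ) ((σ ^ n) q) = (x.1 : GolayPt → ℤ) q := by
    intro n
    induction n with
    | zero => intro q; rfl
    | succ n ih => intro q; rw [pow_succ', Equiv.Perm.mul_apply, h1, ih]
  obtain ⟨n, -, hn⟩ := lab_cyc p
  rw [← hn, h2, hn]

theorem smul_w0 : k y14 • w0 = w0 := by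
  apply Subtype.ext
  apply Subtype.ext
  funext p
  show vecW (σ.symm p) = vecW p
  have h := lab_inv (σ.symm p)
  rw [Equiv.apply_symm_apply] at h
  unfold vecW
  rw [h]

theorem sol {a b c d : ℤ} (h1 : a ^ 2 + 2 * b ^ 2 + 7 * c ^ 2 + 14 * d ^ 2 = 32)
    (h2 : 5 * a + 2 * b + 7 * c + 14 * d = -24) : (a = -2 ∧ b = 0 ∧ c = -2 ∧ d = 0) ∨
      (a = -3 ∧ b = -1 ∧ c = 1 ∧ d = -1) := by
  have hd : -1 ≤ d ∧ d ≤ 1 := ⟨by nlinarith [sq_nonneg a, sq_nonneg b, sq_nonneg c],
    by nlinarith [sq_nonneg a, sq_nonneg b, sq_nonneg c]⟩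
  have hc : -2 ≤ c ∧ c ≤ 2 := ⟨by nlinarith [sq_nonneg a, sq_nonneg b, sq_nonneg d],
    by nlinarith [sq_nonneg a, sq_nonneg b, sq_nonneg d]⟩
  have hb : -4 ≤ b ∧ b ≤ 4 := ⟨by nlinarith [sq_nonneg a, sq_nonneg c, sq_nonneg d],
    by nlinarith [sq_nonneg a, sq_nonneg c, sq_nonneg d]⟩
  obtain ⟨hd1, hd2⟩ := hd
  obtain ⟨hc1, hc2⟩ := hc
  obtain ⟨hb1, hb2⟩ := hb
  have ha : -5 ≤ a ∧ a ≤ 5 := ⟨by nlinarith [sq_nonneg b, sq_nonneg c, sq_nonneg d],
    by nlinarith [sq_nonneg b, sq_nonneg c, sq_nonneg d]⟩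
  obtain ⟨ha1, ha2⟩ := ha
  interval_cases d <;> interval_cases c <;> interval_cases b <;> first | omega | (interval_cases a <;> omega)

theorem fix_cases {x : X} (h : k y14 • x = x) : x = w0 ∨ x = opp w0 := by
  set F : Fin 4 → ℤ := fun j => (x.1 : GolayPt → ℤ) (rep j) with hF
  have hc : ∀ p, (x.1 : GolayPt → ℤ) p = F (lab p) := const h
  have h1 : F 0 ^ 2 + 2 * F 1 ^ 2 + 7 * F 2 ^ 2 + 14 * F 3 ^ 2 = 32 := by
    rw [← sum_lab fun j => F j ^ 2]
    rw [← x.2.1]
    exact Finset.sum_congr rfl fun p _ => by rw [hc p]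
  have h2 : 5 * F 0 + 2 * F 1 + 7 * F 2 + 14 * F 3 = -24 := by
    have h3 : dotInt (x.1 : GolayPt → ℤ) (Spor.leechV : GolayPt → ℤ) = 24 := by
      have h4 := x.2.2
      rw [sqNorm_sub, normV, x.2.1, dotInt_comm] at h4
      linarith
    have h5 : dotInt (x.1 : GolayPt → ℤ) (Spor.leechV : GolayPt → ℤ) =
        -(∑ p : GolayPt, (fun j : Fin 4 => if j = 0 then 5 * F j else F j) (lab p)) := by
      rw [← Finset.sum_neg_distrib]
      refine Finset.sum_congr rfl fun p _ => ?_
      rw [hc p]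
      show F (lab p) * Spor.vecV p = _
      rcases p with _ | t
      · show F 0 * (-5) = -(if (0 : Fin 4) = 0 then 5 * F 0 else F 0)
        rw [if_pos rfl]; ring
      · have h6 : lab (some t) ≠ 0 := lab_some t
        show F (lab (some t)) * (-1) = -(if lab (some t) = 0 then 5 * F (lab (some t)) else F (lab (some t)))
        rw [if_neg h6]; ring
    rw [h5, sum_lab fun j : Fin 4 => if j = 0 then 5 * F j else F j] at h3
    simp at h3
    linarith
  rcases sol h1 h2 with ⟨ha, hb, hc', hd⟩ | ⟨ha, hb, hc', hd⟩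
  · left
    apply Subtype.ext
    apply Subtype.ext
    funext p
    rw [hc p]
    show F (lab p) = if lab p = 0 ∨ lab p = 2 then -2 else 0
    generalize lab p = j
    fin_cases j
    · exact ha
    · exact hb
    · exact hc'
    · exact hd
  · right
    apply Subtype.ext
    apply Subtype.ext
    funext p
    rw [hc p]
    have h7 : ∀ q : GolayPt, Spor.vecV q - vecW q = if lab q = 0 then -3 else if lab q = 1 then -1 else
        if lab q = 2 then 1 else -1 := by decide +kernel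
    show F (lab p) = Spor.vecV p - vecW p
    rw [h7]
    generalize lab p = j
    fin_cases j
    · exact ha
    · exact hb
    · exact hc'
    · exact hd

theorem fix_one : Nat.card (MulAction.fixedBy Y (k y14)) = 1 := by
  rw [Nat.card_eq_one_iff_unique]
  constructor
  · constructor
    have key : ∀ y : MulAction.fixedBy Y (k y14), (y : Y) = Quotient.mk st w0 := by
      rintro ⟨y, hy⟩
      obtain ⟨x, rfl⟩ := Quotient.exists_rep y
      have h1 : k y14 • (Quotient.mk st x : Y) = Quotient.mk st x := hy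
      rw [smul_mk] at h1
      show (Quotient.mk st x : Y) = Quotient.mk st w0
      rcases (mk_eq _ _).1 h1 with h2 | h2
      · rcases fix_cases h2.symm with rfl | rfl
        · rfl
        · exact (mk_eq _ _).2 (Or.inr (opp_opp _).symm)
      · exfalso
        have h5 : σ.symm none = none := by
          rw [Equiv.symm_apply_eq]
          exact (show none = σ none by decide +kernel)
        have h3 : (x.1 : GolayPt → ℤ) none = Spor.vecV none - (x.1 : GolayPt → ℤ) (σ.symm none) :=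
          congrArg (fun z : X => (z.1 : GolayPt → ℤ) none) h2
        rw [h5] at h3
        have h4 : Spor.vecV none = -5 := rfl
        omega
    intro a b
    exact Subtype.ext ((key a).trans (key b).symm)
  · exact ⟨⟨Quotient.mk st w0, by
      show k y14 • (Quotient.mk st w0 : Y) = _
      rw [smul_mk, smul_w0]⟩⟩

theorem card_cent {x : Spor.Co3} (hx : orderOf x = 23) : Nat.card (centralizer ({x} : Set Spor.Co3)) = 23 :=
  Cfsg.Agent.H547.SelfCent.Conway.co3 ⟨MulEquiv.refl _⟩ Cfsg.Agent.H393.Iso.na_co3_model hx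

open Cfsg.Agent.SporRec.Co3.Chain in
theorem exists22 : ∃ g : Spor.Co3, orderOf g = 22 := by
  have e' : G3 ≃* Spor.Co3 := Cfsg.Agent.SporRec.Co3.Model.equivCo3
  have : Finite G3 := Finite.of_equiv _ e'.symm.toEquiv
  obtain ⟨w, hw, hw1, -, hdvd⟩ := Cfsg.Agent.H701.exists_w_co3
  have hp : Fact (Nat.Prime 11) := ⟨by norm_num⟩
  obtain ⟨y, hy⟩ := exists_prime_orderOf_dvd_card' 11 (G := centralizer ({w} : Set G3))
    ((by norm_num : 11 ∣ 95040).trans hdvd)
  have ho : orderOf (y : G3) = 11 := by rw [Subgroup.orderOf_coe, hy]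
  have h2 : orderOf w = 2 := orderOf_eq_prime (by rw [pow_two, hw]) hw1
  have hc : Commute w (y : G3) := Subgroup.mem_centralizer_singleton_iff.1 y.2 |>.symm
  refine ⟨e' (w * y), ?_⟩
  rw [MulEquiv.orderOf_eq, hc.orderOf_mul_eq_mul_orderOf_of_coprime (by rw [h2, ho]; norm_num), h2, ho]

theorem row1 : Row1 Spor.Co3 := by
  left
  have c : Nat.card Spor.Co3 = 495766656000 := card_co3
  obtain ⟨μ, hμ⟩ := exists_mu
  obtain ⟨χ, hχ⟩ := Cfsg.Agent.H419.TwoTrans.exists_irr (G := Spor.Co3) Y two_trans (by rw [card_Y]; norm_num)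
  have dμ : charDegree (μ : Spor.Co3 → ℂ) = 23 := by
    refine Cfsg.Agent.H670.PSing.charDegree_eq_of ?_
    have h1 := hμ 1
    have h6 : Cfsg.Agent.H419.LeechIrr.lchi inc 1 = 24 := by
      rw [Cfsg.Agent.H419.LeechIrr.lchi, map_one, Cfsg.Agent.SigZeroCo2.Lin.tr8_one]
      norm_num
    rw [h6] at h1
    push_cast
    linear_combination -h1
  have dχ : charDegree (χ : Spor.Co3 → ℂ) = 275 := by
    refine Cfsg.Agent.H670.PSing.charDegree_eq_of ?_
    rw [hχ, MulAction.fixedBy_one_eq_univ, Nat.card_coe_set_eq, Set.ncard_univ, card_Y]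
    norm_num
  refine ⟨μ, χ, ?_, ?_, ?_⟩
  · rintro rfl
    omega
  · have hp : Fact (Nat.Prime 23) := ⟨by norm_num⟩
    obtain ⟨x, hx⟩ := exists_prime_orderOf_dvd_card' 23 (G := Spor.Co3) (by rw [c]; norm_num)
    refine three_of_isolated (r := 23) (n := 21555072000) (e := 11) (m := 2) (by norm_num) hx (card_cent hx)
      (by rw [c]) (by rw [c]; norm_num) (by norm_num) (by norm_num) (by norm_num) (by rw [dμ]) (y := k y14) ?_
      (by rw [order]; norm_num)
    have h1 := hμ (k y14)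
    rw [Cfsg.Agent.H419.LeechFix.lchi_perm inc (inc_k y14)] at h1
    have h2 : Nat.card (MulAction.fixedBy GolayPt (y14 : M24)) = 1 := x14_fix
    rw [h2] at h1
    simpa using h1
  · have z11 : ∀ g : Spor.Co3, 11 ∣ orderOf g → (χ : Spor.Co3 → ℂ) g = 0 := fun g hg =>
      zero_of_dvd (by norm_num) (by rw [c]; norm_num) (by rw [dχ]; norm_num) hg
    obtain ⟨g, hg⟩ := exists22
    refine three_of_orders {11, 22, 14} (by decide) fun n hn => ?_
    simp only [Finset.mem_insert, Finset.mem_singleton] at hn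
    rcases hn with rfl | rfl | rfl
    · have h11 : orderOf (g ^ 2) = 11 := by
        rw [orderOf_pow' g (by norm_num), hg]; norm_num
      exact ⟨g ^ 2, h11, z11 _ (by rw [h11])⟩
    · exact ⟨g, hg, z11 g (by rw [hg]; norm_num)⟩
    · refine ⟨k y14, order, ?_⟩
      rw [hχ, fix_one]
      norm_num

theorem rowT : RowT Spor.Co3 := ⟨row1, row2_of_out_one Cfsg.Agent.S2071.result⟩

/-- **the row of `Co3`** -/
theorem co3 {S : Type} [Group S] (h : Spor.IsoCo3 S) : RowT S := by
  obtain ⟨e⟩ := h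
  have : Finite S := Finite.of_equiv _ e.symm.toEquiv
  exact RowT.of_equiv e rowT

end Cfsg.Agent.H978.TZ.Co3
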