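import Cfsg.Agent.H978.TZ.Tool
import Cfsg.Agent.H153.ZerosON
import Cfsg.Agent.S2078

/-!
# S4897: the row of `O'N` (helper978)

The characters vanishing on the three classes of elements of order 19.
-/

set_option autoImplicit false

namespace Cfsg.Agent.H978.TZ.ONan

open Cfsg Subgroup Cfsg.Agent.H504.TwoZ Cfsg.Agent.H504.Zeros Cfsg.Agent.Characters.Core Cfsg.Agent.H671.H5
open Cfsg.Agent.H153.Zeros.ON19 Cfsg.Agent.H504.ZeroTI
open Cfsg.Spor (ON)

theorem sq_ndvd : ¬ 19 * 19 ∣ Nat.card ON := by rw [card_ON]; norm_num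

/-- every element of order 19 is conjugate to its powers with exponent a cube -/
theorem isConj_pow {x : ON} (hx : orderOf x = 19) {k : ℕ} (hk : k ∈ ({1, 7, 11, 18, 12, 8} : Finset ℕ)) :
    IsConj x (x ^ k) := by
  have hfin := finite_ON
  have h7 : ∀ y : ON, orderOf y = 19 → IsConj y (y ^ 7) := by
    intro y hy
    obtain ⟨x0, g, h1, h2⟩ := exists_three
    obtain ⟨c, hc⟩ := transfer (by norm_num) sq_ndvd h1 hy ⟨g, h2⟩
    exact isConj_iff.2 ⟨c, hc⟩
  have h18 : ∀ y : ON, orderOf y = 19 → IsConj y (y ^ 18) := by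
    intro y hy
    obtain ⟨x0, g, h1, h2⟩ := exists_two
    obtain ⟨c, hc⟩ := transfer (by norm_num) sq_ndvd h1 hy ⟨g, h2⟩
    exact isConj_iff.2 ⟨c, hc⟩
  have ho : ∀ y : ON, orderOf y = 19 → ∀ n, Nat.Coprime 19 n → orderOf (y ^ n) = 19 := by
    intro y hy n hn
    rw [Nat.Coprime.orderOf_pow (by rwa [hy])]
    exact hy
  have e : ∀ a b : ℕ, a % 19 = b % 19 → x ^ a = x ^ b := fun a b hab => by
    rw [← pow_mod_orderOf x a, ← pow_mod_orderOf x b, hx, hab]
  simp only [Finset.mem_insert, Finset.mem_singleton] at hk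
  rcases hk with rfl | rfl | rfl | rfl | rfl | rfl
  · rw [pow_one]
  · exact h7 x hx
  · have := (h7 x hx).trans (h7 _ (ho x hx 7 (by norm_num)))
    rwa [← pow_mul, e (7 * 7) 11 (by norm_num)] at this
  · exact h18 x hx
  · have := (h7 x hx).trans (h18 _ (ho x hx 7 (by norm_num)))
    rwa [← pow_mul, e (7 * 18) 12 (by norm_num)] at this
  · have := ((h7 x hx).trans (h7 _ (ho x hx 7 (by norm_num)))).trans
      (h18 _ (ho _ (ho x hx 7 (by norm_num)) 7 (by norm_num)))
    rwa [← pow_mul, ← pow_mul, e (7 * 7 * 18) 8 (by norm_num)] at this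

/-- automorphisms preserve the classes of elements of order 19 -/
theorem isConj_aut {x : ON} (hx : orderOf x = 19) (φ : MulAut ON) : IsConj x (φ x) := by
  have hfin := finite_ON
  have hφx : orderOf (φ x) = 19 := by rw [MulEquiv.orderOf_eq, hx]
  obtain ⟨c, hc, -⟩ := Cfsg.Agent.H547.SelfCent.exists_conj (by norm_num) sq_ndvd hx hφx
  obtain ⟨t, ht⟩ := (mem_zpowers_iff.1 hc)
  -- `c * φ x * c⁻¹ = x ^ t`
  obtain ⟨t, ht⟩ : ∃ t : ℕ, t < 19 ∧ x ^ t = c * φ x * c⁻¹ := by
    refine ⟨(t % 19).toNat, by omega, ?_⟩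
    rw [← ht, ← zpow_natCast, Int.toNat_of_nonneg (by omega)]
    have h1 := zpow_mod_orderOf x t
    rw [hx] at h1
    exact h1
  obtain ⟨ht1, ht⟩ := ht
  have ht0 : t ≠ 0 := by
    rintro rfl
    rw [pow_zero] at ht
    have h1 : φ x = 1 := by
      have h2 : c * φ x * c⁻¹ = 1 := ht.symm
      rwa [conj_eq_one_iff] at h2
    rw [h1, orderOf_one] at hφx
    norm_num at hφx
  have hcop : Nat.Coprime 19 t := by
    exact (Nat.Prime.coprime_iff_not_dvd (by norm_num)).2 fun h => by
      have := Nat.le_of_dvd (Nat.pos_of_ne_zero ht0) h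
      omega
  have a1 : IsConj (φ x) (x ^ t) := isConj_iff.2 ⟨c, ht.symm⟩
  -- `φ²` is inner
  have a2 : IsConj x (φ (φ x)) := by
    have h1 : (QuotientGroup.mk φ : Out ON) ^ 2 = 1 := by
      have h2 := pow_card_eq_one' (G := Out ON) (x := QuotientGroup.mk φ)
      rwa [Cfsg.Agent.S2078.result] at h2
    rw [← QuotientGroup.mk_pow, QuotientGroup.eq_one_iff] at h1
    obtain ⟨d, hd⟩ := h1
    refine isConj_iff.2 ⟨d, ?_⟩
    have h3 := DFunLike.congr_fun hd x
    rw [MulAut.conj_apply] at h3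
    rw [h3]
    rfl
  have a3 : IsConj (φ (φ x)) (x ^ (t * t)) := by
    have h1 : IsConj (φ (φ x)) (φ (x ^ t)) := by
      obtain ⟨d, hd⟩ := isConj_iff.1 a1
      refine isConj_iff.2 ⟨φ d, ?_⟩
      rw [← hd]; simp
    rw [map_pow] at h1
    have h2 : IsConj ((φ x) ^ t) ((x ^ t) ^ t) := by
      obtain ⟨d, hd⟩ := isConj_iff.1 a1
      refine isConj_iff.2 ⟨d, ?_⟩
      rw [← hd, conj_pow]
    rw [← pow_mul] at h2
    exact h1.trans h2
  have a4 : IsConj x (x ^ (t * t)) := a2.trans a3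
  have a5 : IsConj (x ^ t) (x ^ (t * t * t)) := by
    obtain ⟨d, hd⟩ := isConj_iff.1 a4
    refine isConj_iff.2 ⟨d, ?_⟩
    rw [pow_mul, ← hd, conj_pow]
  have a6 : IsConj x (x ^ (t * t * t)) := by
    have h1 : x ^ (t * t * t) = x ^ (t * t * t % 19) := by
      rw [← pow_mod_orderOf, hx]
    rw [h1]
    have h2 : t * t * t % 19 ∈ ({1, 7, 11, 18, 12, 8} : Finset ℕ) := by
      have : ∀ t < 19, t ≠ 0 → t * t * t % 19 ∈ ({1, 7, 11, 18, 12, 8} : Finset ℕ) := by decide
      exact this t ht1 ht0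
    exact isConj_pow hx h2
  exact a6.trans (a5.symm.trans a1.symm)

theorem rowT : RowT ON := by
  classical
  have hfin := finite_ON
  have hfi := finite_irr (G := ON)
  have hp : Fact (Nat.Prime 19) := ⟨by norm_num⟩
  obtain ⟨x, hx⟩ := exists_prime_orderOf_dvd_card' 19 (G := ON) (by rw [card_ON]; norm_num)
  have hA : Cfsg.Agent.H504.ZeroTI.CC (zpowers x) := cc_of_prime (by norm_num) hx (card_cent hx)
  have cA : Nat.card (zpowers x) = 19 := by rw [Nat.card_zpowers, hx]
  have he : eIdx (zpowers x) = 6 := by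
    have h1 := eIdx_eq_mod hA (by rw [cA]; norm_num) (n := 24253447680) (by rw [card_ON, cA])
    rw [h1, cA]
  obtain ⟨t, ht, htc, hto⟩ := exists_of_orders (G := ON) _ orders
  have hk : 14 ≤ Nat.card (ConjClasses ON) := by
    have h1 := m_add_card_le hA (m := 3) (by rw [cA, he]) t ht ?_
    · rw [htc] at h1
      exact h1
    · intro g hg b hb hb1 hc
      have h2 : orderOf g = orderOf b := by
        obtain ⟨c, rfl⟩ := isConj_iff.1 hc
        exact ((MulAut.conj c).orderOf_eq g).symm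
      have h3 : orderOf b ∣ 19 := by
        have := orderOf_dvd_natCard (⟨b, hb⟩ : zpowers x)
        rwa [← Subgroup.orderOf_coe, cA] at this
      have h4 := hto g hg
      rw [h2] at h4
      rcases (Nat.dvd_prime (by norm_num)).1 h3 with h5 | h5
      · exact hb1 (orderOf_eq_one_iff.1 h5)
      · rw [h5] at h4
        exact absurd h4 (by decide)
  constructor
  · left
    exact two_of_ti hA he (m := 3) (by norm_num) (by rw [cA]) hk (by norm_num)
  · rintro G _ _ N hNn ⟨e⟩ hc - hN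
    left
    have h1 := index_dvd_out N e hc
    rw [Cfsg.Agent.S2078.result] at h1
    have h2 := Nat.le_of_dvd (by norm_num) h1
    obtain ⟨s, hs, hsm, hsA⟩ := exists_reps hA (m := 3) (by rw [cA, he])
    have hord : ∀ g ∈ s, orderOf g = 19 := by
      intro g hg
      obtain ⟨h3, h4⟩ := hsA g hg
      have h5 : orderOf g ∣ 19 := by
        have := orderOf_dvd_natCard (⟨g, h3⟩ : zpowers x)
        rwa [Subgroup.orderOf_mk, cA] at this
      rcases (Nat.dvd_prime (by norm_num)).1 h5 with h6 | h6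
      · exact absurd (orderOf_eq_one_iff.1 h6) h4
      · exact h6
    have h3 := le_ncard_compl hA he (m := 3) (by norm_num) (by rw [cA]) hk
    refine two_of_many N e (Set.toFinite ((NV (zpowers x))ᶜ : Set (IrrCharacter ON))).toFinset ?_ s ?_ ?_ (by omega)
    · rw [← Set.ncard_eq_toFinset_card]
      omega
    · intro g hg k hk' φ hφ
      exact hs g hg k hk' (hφ ▸ isConj_aut (hord g hg) φ)
    · intro θ hθ y hy φ
      rw [Set.Finite.mem_toFinset] at hθ
      have h4 := apply_eq_zero_of_compl hθ (hsA y hy).1 (hsA y hy).2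
      rw [← h4]
      obtain ⟨c, hc'⟩ := isConj_iff.1 (isConj_aut (hord y hy) φ)
      rw [← hc']
      exact isIrr_isClassFunction θ.2 _ _

/-- **the row of `O'N`** -/
theorem on {S : Type} [Group S] (h : Spor.IsoON S) : RowT S := by
  obtain ⟨e⟩ := h
  have hfin := finite_ON
  have : Finite S := Finite.of_equiv _ e.symm.toEquiv
  exact RowT.of_equiv e rowT

end Cfsg.Agent.H978.TZ.ONan
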