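import Cfsg.Agent.H504.TwoRows
import Cfsg.Agent.S0886
import Cfsg.Agent.H545.PQ.RowTool
import Cfsg.Agent.H55.OutGen

/-!
# Tools for the sporadic rows of S4897 (helper978)
-/

set_option autoImplicit false

namespace Cfsg.Agent.H978.TZ

open Cfsg Subgroup Cfsg.Agent.H504.TwoZ Cfsg.Agent.H504.Zeros Cfsg.Agent.Characters.Core Cfsg.Agent.H671.H5

universe u v

section

variable {G : Type u} [Group G] [Finite G]

/-- a degree divisible by a prime `p` with `p² ∤ |G|` -/
theorem zero_of_dvd {p : ℕ} (hp : p.Prime) (h2 : ¬ p ^ 2 ∣ Nat.card G) {χ : IrrCharacter G}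
    (hd : p ∣ charDegree (χ : G → ℂ)) {x : G} (hx : p ∣ orderOf x) : (χ : G → ℂ) x = 0 := by
  have : Fact p.Prime := ⟨hp⟩
  have h0 : charDegree (χ : G → ℂ) ≠ 0 := (Cfsg.Agent.Blocks.Basic.charDegree_pos χ.2).ne'
  have hdv : charDegree (χ : G → ℂ) ∣ Nat.card G := Cfsg.Agent.Blocks.Knorr.charDegree_dvd χ.2
  refine Cfsg.Agent.H713.irr_zero_of_singular (p := p) ?_ hx
  have h3 : (Nat.card G).factorization p ≤ 1 := by
    by_contra hcon
    exact h2 ((hp.pow_dvd_iff_le_factorization Nat.card_pos.ne').2 (by omega))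
  have h4 : 1 ≤ (charDegree (χ : G → ℂ)).factorization p := (hp.dvd_iff_one_le_factorization h0).1 hd
  have h5 := (Nat.factorization_le_iff_dvd h0 Nat.card_pos.ne').2 hdv p
  omega

/-- zeros at elements of three different orders -/
theorem three_of_orders {χ : IrrCharacter G} (s : Finset ℕ) (hs : 3 ≤ s.card)
    (h : ∀ n ∈ s, ∃ g : G, orderOf g = n ∧ (χ : G → ℂ) g = 0) : 3 ≤ zc χ := by
  classical
  choose f hf using h
  have hinj : Function.Injective fun n : s => f n.1 n.2 := by
    intro a b hab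
    apply Subtype.ext
    rw [← (hf a.1 a.2).1, ← (hf b.1 b.2).1]
    exact congrArg orderOf hab
  refine hs.trans ?_
  rw [← Finset.card_attach, ← Finset.card_image_of_injective s.attach hinj]
  refine le_zc ?_ ?_
  · intro g hg k hk hc
    obtain ⟨a, -, rfl⟩ := Finset.mem_image.1 hg
    obtain ⟨b, -, rfl⟩ := Finset.mem_image.1 hk
    obtain ⟨c, hc⟩ := isConj_iff.1 hc
    have h1 : orderOf (f a.1 a.2) = orderOf (f b.1 b.2) := by
      rw [← hc]; exact ((MulAut.conj c).orderOf_eq _).symm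
    rw [(hf a.1 a.2).1, (hf b.1 b.2).1] at h1
    rw [Subtype.ext h1]
  · intro g hg
    obtain ⟨a, -, rfl⟩ := Finset.mem_image.1 hg
    exact (hf a.1 a.2).2

/-- `r`-defect zero with at least two classes of elements of order `r`, and one more zero -/
theorem three_of_isolated {χ : IrrCharacter G} {x : G} {r n e m : ℕ} (hr : r.Prime) (hx : orderOf x = r)
    (hc : Nat.card (centralizer ({x} : Set G)) = r) (hn : Nat.card G = r * n) (h2 : ¬ r ^ 2 ∣ Nat.card G)
    (he : n % r = e) (hm : 2 ≤ m) (hem : r = e * m + 1) (hd : r ∣ charDegree (χ : G → ℂ)) {y : G}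
    (hy : (χ : G → ℂ) y = 0) (hyr : orderOf y ≠ r) : 3 ≤ zc χ := by
  classical
  have hA := cc_of_prime hr hx hc
  have cA : Nat.card (zpowers x) = r := by rw [Nat.card_zpowers, hx]
  have h1 := eIdx_eq_mod hA (by rw [cA]; exact hr.one_lt) (n := n) (by rw [hn, cA])
  rw [cA, he] at h1
  obtain ⟨s, hs, hsm, hsA⟩ := exists_reps hA (m := m) (by rw [h1, cA]; exact hem)
  have hord : ∀ g ∈ s, orderOf g = r := by
    intro g hg
    obtain ⟨h3, h4⟩ := hsA g hg
    have h5 : orderOf g ∣ r := by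
      have := orderOf_dvd_natCard (⟨g, h3⟩ : zpowers x)
      rwa [Subgroup.orderOf_mk, cA] at this
    rcases (Nat.dvd_prime hr).1 h5 with h6 | h6
    · exact absurd (orderOf_eq_one_iff.1 h6) h4
    · exact h6
  have hys : y ∉ s := fun h => hyr (hord y h)
  have h3 : (insert y s).card = m + 1 := by rw [Finset.card_insert_of_notMem hys, hsm]
  have h4 : NonConj (insert y s) := by
    intro g hg k hk hc
    have ho : orderOf g = orderOf k := by
      obtain ⟨c, rfl⟩ := isConj_iff.1 hc
      exact ((MulAut.conj c).orderOf_eq g).symm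
    rcases Finset.mem_insert.1 hg with rfl | hg' <;> rcases Finset.mem_insert.1 hk with rfl | hk'
    · rfl
    · rw [hord k hk'] at ho; exact absurd ho hyr
    · rw [hord g hg'] at ho; exact absurd ho.symm hyr
    · exact hs g hg' k hk' hc
  refine le_trans ?_ (le_zc h4 ?_)
  · omega
  · intro g hg
    rcases Finset.mem_insert.1 hg with rfl | hg'
    · exact hy
    · exact zero_of_dvd hr h2 hd (by rw [hord g hg'])

end

section

variable {S : Type u} [Group S]

theorem index_dvd_out [Finite S] {G : Type u} [Group G] [Finite G] (N : Subgroup G) [N.Normal] (e : N ≃* S)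
    (hc : centralizer (N : Set G) = ⊥) : N.index ∣ Nat.card (Out S) := by
  have h1 := Cfsg.Agent.H545.PQ.index_dvd_out N hc
  rw [← Cfsg.Agent.H55.OutGen.card_out_congr e]
  exact h1

/-- trivial outer automorphism group -/
theorem row2_of_out_one [Finite S] (h : Nat.card (Out S) = 1) : Row2 S := by
  rintro G _ _ N _ ⟨e⟩ hc - hN
  have h1 := index_dvd_out N e hc
  rw [h, Nat.dvd_one] at h1
  exact absurd (index_eq_one.1 h1) hN

/-- **outer automorphism group of order 2**: an irreducible character invariant under `Aut S` with three zeros not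
conjugate in `Aut S` -/
theorem row2_of_out_two [Finite S] (h : Nat.card (Out S) ≤ 2) {θ : IrrCharacter S}
    (hθ : ∀ φ : MulAut S, (θ : S → ℂ) ∘ φ = θ) (s : Finset S) (hs : AutNC s)
    (hz : ∀ x ∈ s, (θ : S → ℂ) x = 0) (h3 : 3 ≤ s.card) : Row2 S := by
  classical
  rintro G _ _ N hNn ⟨e⟩ hc - hN
  left
  have h1 := index_dvd_out N e hc
  have h2 : N.index = 2 := by
    have h4 : N.index ≤ 2 := by
      have : 0 < Nat.card (Out S) := Nat.card_pos
      exact (Nat.le_of_dvd this h1).trans h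
    have h5 : N.index ≠ 1 := fun h => hN (index_eq_one.1 h)
    have h6 : N.index ≠ 0 := index_ne_zero_of_finite
    omega
  have hcyc : IsCyclic (G ⧸ N) := by
    have : Fact (Nat.Prime 2) := ⟨Nat.prime_two⟩
    exact isCyclic_of_prime_card (p := 2) h2
  have hirr : IsIrrCharacter N ((θ : S → ℂ) ∘ e) := isIrr_comp_equiv N e θ
  have hinv : ∀ (g : G) (n : N), ((θ : S → ℂ) ∘ e) ⟨g * n * g⁻¹, hNn.conj_mem (n : G) n.2 g⟩ = ((θ : S → ℂ) ∘ e) n := by
    intro g n
    have h4 := congrFun (hθ (autS N e g)) (e n)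
    have h5 : autS N e g (e n) = e ⟨g * n * g⁻¹, hNn.conj_mem (n : G) n.2 g⟩ := by
      rw [autS_apply, MulEquiv.symm_apply_apply]
      rfl
    rw [Function.comp_apply, h5] at h4
    exact h4
  obtain ⟨χ, hχ, hχN⟩ := S0886.result N hcyc _ hirr hinv
  refine two_of_gallagher N hN (χ := ⟨χ, hχ⟩) (isIrr_restrict_of_ext N e (θ := θ) hχN) ?_
  obtain ⟨h4, h5⟩ := nonConj_image N e hs
  refine (h3.trans h5.ge).trans (le_zc h4 fun g hg => ?_)
  obtain ⟨x, hx, rfl⟩ := Finset.mem_image.1 hg
  show χ ((e.symm x : N) : G) = 0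
  rw [hχN, Function.comp_apply, MulEquiv.apply_symm_apply]
  exact hz x hx

end

end Cfsg.Agent.H978.TZ
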